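import Cfsg.Agent.H613.KKL.Defs
import Cfsg.Prelude.Def_CaseTheorems
import Cfsg.Agent.StdRank2.SchQuot
import Cfsg.Agent.SolvableStructure.MinimalNormal

/-!
# S4546, B8: the index of the quasisimple normal subgroup is odd (helper388)

* `solvable_quotient` : `K` normal quasisimple, `C_G(K) ≤ Z(G)`, the Schreier property for `K / Z(K)`: `G / K` is solvable;
* `exists_two_layer` : a solvable group of even order has normal subgroups `L < H` with `|H : L|` a power of two;
* `B8_of_sch`.
-/

set_option autoImplicit false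
set_option linter.style.haveILetI false

namespace Cfsg.Agent.H388.KKL

open Cfsg Subgroup Cfsg.Agent.Schreier.Basic
open scoped commutatorElement

universe u

/-- a perfect subgroup with solvable quotient -/
theorem exists_residual {A : Type*} [Group A] [Finite A] :
    ∃ R : Subgroup A, R.Normal ∧ ⁅R, R⁆ = R ∧ ∃ n, derivedSeries A n = R := by
  have hst : ∃ n, derivedSeries A (n + 1) = derivedSeries A n := by
    by_contra hcon
    push Not at hcon
    have h1 : StrictAnti (derivedSeries A) := strictAnti_nat_of_succ_lt fun n =>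
      lt_of_le_of_ne (derivedSeries_antitone A (Nat.le_succ n)) (hcon n)
    exact not_injective_infinite_finite _ h1.injective
  obtain ⟨n, hn⟩ := hst
  exact ⟨derivedSeries A n, derivedSeries_normal A n, hn, n, rfl⟩

theorem solvable_quotient {G : Type*} [Group G] [Finite G] (K : Subgroup G) [hKn : K.Normal] (hK : IsQuasisimple ↥K)
    (hC : Subgroup.centralizer (K : Set G) ≤ Subgroup.center G) (hS : Sch (↥K ⧸ Subgroup.center ↥K)) :
    Group.IsSolvable (G ⧸ K) := by
  obtain ⟨R, hRn, hR, n, hn⟩ := exists_residual (A := G)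
  have hSK : Sch ↥K := Cfsg.Agent.StdRank2.SchQuot.sch_of_center hK.1.commutator_eq_top hS
  have h1 : R.map (MulAut.conjNormal : G →* MulAut K) ≤ (MulAut.conj : K →* MulAut K).range :=
    hSK _ (map_perfect _ hR)
  have h2 : ∀ g ∈ R, ∃ k ∈ K, ∃ z ∈ Subgroup.center G, g = k * z := by
    intro g hg
    obtain ⟨c, hc⟩ := h1 ⟨g, hg, rfl⟩
    refine ⟨c, c.2, (c : G)⁻¹ * g, hC ?_, by group⟩
    rw [Subgroup.mem_centralizer_iff]
    intro x hx
    have h3 := congrArg (fun f : MulAut K => ((f ⟨x, hx⟩ : K) : G)) hc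
    have h4 : (c : G) * x * (c : G)⁻¹ = g * x * g⁻¹ := h3
    calc x * ((c : G)⁻¹ * g) = (c : G)⁻¹ * ((c : G) * x * (c : G)⁻¹) * g := by group
      _ = (c : G)⁻¹ * (g * x * g⁻¹) * g := by rw [h4]
      _ = _ := by group
  have h3 : R ≤ K := by
    have h4 : ⁅R, R⁆ ≤ K := by
      rw [Subgroup.commutator_le]
      intro a ha b hb
      obtain ⟨k, hk, z, hz, rfl⟩ := h2 a ha
      obtain ⟨l, hl, w, hw, rfl⟩ := h2 b hb
      have c1 := Subgroup.mem_center_iff.1 hz
      have c2 := Subgroup.mem_center_iff.1 hw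
      have h5 : k * z * (l * w) = k * l * (z * w) := by
        calc k * z * (l * w) = k * (z * l) * w := by group
          _ = k * (l * z) * w := by rw [c1]
          _ = _ := by group
      have h6 : l * w * (k * z) = l * k * (z * w) := by
        calc l * w * (k * z) = l * (w * k) * z := by group
          _ = l * (k * w) * z := by rw [c2]
          _ = l * k * (w * z) := by group
          _ = _ := by rw [c1]
      have h7 : ⁅k * z, l * w⁆ = ⁅k, l⁆ := by
        have h8 : ⁅k * z, l * w⁆ = (k * z * (l * w)) * (l * w * (k * z))⁻¹ := by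
          rw [commutatorElement_def]
          group
        rw [h8, h5, h6, commutatorElement_def]
        group
      rw [h7, commutatorElement_def]
      exact K.mul_mem (K.mul_mem (K.mul_mem hk hl) (K.inv_mem hk)) (K.inv_mem hl)
    rwa [hR] at h4
  refine ⟨n, ?_⟩
  have h4 := map_derivedSeries_eq (f := QuotientGroup.mk' K) (QuotientGroup.mk'_surjective K) n
  rw [← h4, hn, Subgroup.map_eq_bot_iff, QuotientGroup.ker_mk']
  exact h3

theorem exists_two_layer {Q : Type*} [Group Q] [Finite Q] [Group.IsSolvable Q] (h : ¬ Odd (Nat.card Q)) :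
    ∃ L H : Subgroup Q, L.Normal ∧ H.Normal ∧ L < H ∧ ∃ k : ℕ, L.relIndex H = 2 ^ k := by
  classical
  -- `L` maximal with even index
  let s : Set (Subgroup Q) := {L | L.Normal ∧ ¬ Odd L.index}
  have hs : s.Nonempty := ⟨⊥, inferInstance, by rwa [Subgroup.index_bot]⟩
  obtain ⟨L, hL⟩ := s.toFinite.exists_maximal hs
  obtain ⟨hLn, hLo⟩ := hL.prop
  haveI := hLn
  have hne : L ≠ ⊤ := by
    rintro rfl
    exact hLo (by rw [Subgroup.index_top]; exact odd_one)
  haveI : Nontrivial (Q ⧸ L) := QuotientGroup.nontrivial_iff.2 hne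
  haveI : Group.IsSolvable (Q ⧸ L) := inferInstance
  obtain ⟨M, hM, hMb, hmin⟩ : ∃ M : Subgroup (Q ⧸ L), M.Normal ∧ M ≠ ⊥ ∧
      ∀ K : Subgroup (Q ⧸ L), K.Normal → K ≤ M → K = ⊥ ∨ K = M := by
    let t : Set (Subgroup (Q ⧸ L)) := {M | M.Normal ∧ M ≠ ⊥}
    have ht : t.Nonempty := ⟨⊤, inferInstance, top_ne_bot⟩
    obtain ⟨M, hM⟩ := t.toFinite.exists_minimal ht
    refine ⟨M, hM.prop.1, hM.prop.2, fun K hK hKM => ?_⟩
    by_cases hKb : K = ⊥
    · exact Or.inl hKb
    · exact Or.inr (le_antisymm hKM (hM.2 ⟨hK, hKb⟩ hKM))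
  haveI := hM
  obtain ⟨p, d, hp, hd, hcard, -⟩ := Cfsg.Agent.SolvableStructure.MinimalNormal.exists_prime_of_minimal_normal M hMb hmin
  set H : Subgroup Q := M.comap (QuotientGroup.mk' L) with hH
  have hLH : L ≤ H := by
    intro x hx
    rw [hH, Subgroup.mem_comap, QuotientGroup.mk'_apply, (QuotientGroup.eq_one_iff x).2 hx]
    exact M.one_mem
  have hrel : L.relIndex H = p ^ d := by
    rw [← hcard]
    have h1 : (⊥ : Subgroup (Q ⧸ L)).comap (QuotientGroup.mk' L) = L := by
      rw [MonoidHom.comap_bot, QuotientGroup.ker_mk']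
    have h2 : L.relIndex H = (⊥ : Subgroup (Q ⧸ L)).relIndex M := by
      conv_lhs => rw [← h1]
      rw [hH, Subgroup.relIndex_comap, Subgroup.map_comap_eq_self_of_surjective (QuotientGroup.mk'_surjective L)]
    rw [h2, Subgroup.relIndex_bot_left]
  have hlt : L < H := by
    refine lt_of_le_of_ne hLH fun h1 => ?_
    rw [← h1, Subgroup.relIndex_self] at hrel
    have := Nat.one_lt_pow hd.ne' hp.one_lt
    omega
  have hHn : H.Normal := hM.comap _
  have hHo : Odd H.index := by
    by_contra hcon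
    exact absurd (hL.2 ⟨hHn, hcon⟩ hlt.le) (not_le_of_gt hlt)
  have h3 : L.relIndex H * H.index = L.index := Subgroup.relIndex_mul_index hLH
  have h4 : ¬ Odd (p ^ d) := by
    intro h5
    rw [← hrel] at h5
    exact hLo (by rw [← h3]; exact h5.mul hHo)
  have h5 : p = 2 := by
    rcases hp.eq_two_or_odd' with h6 | h6
    · exact h6
    · exact absurd h6.pow h4
  exact ⟨L, H, hLn, hHn, hlt, d, by rw [hrel, h5]⟩

/-- **B8** from the Schreier property. -/
theorem B8_of_sch {G : Type*} [Group G] [Finite G] (K : Subgroup G) [K.Normal] (hK : IsQuasisimple ↥K)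
    (hC : Subgroup.centralizer (K : Set G) ≤ Subgroup.center G) (hS : Sch (↥K ⧸ Subgroup.center ↥K))
    (h2 : ∀ L H : Subgroup G, L.Normal → H.Normal → L ≤ H → K ≤ L → (∃ k : ℕ, L.relIndex H = 2 ^ k) → L = H) :
    Odd K.index := by
  haveI := solvable_quotient K hK hC hS
  by_contra hcon
  obtain ⟨L, H, hL, hH, hlt, k, hk⟩ := exists_two_layer (Q := G ⧸ K) hcon
  have hsurj := QuotientGroup.mk'_surjective K
  have h3 := h2 (L.comap (QuotientGroup.mk' K)) (H.comap (QuotientGroup.mk' K)) (hL.comap _) (hH.comap _)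
    (Subgroup.comap_mono hlt.le) (by
      intro x hx
      rw [Subgroup.mem_comap, QuotientGroup.mk'_apply, (QuotientGroup.eq_one_iff x).2 hx]
      exact L.one_mem) ⟨k, by
      rw [Subgroup.relIndex_comap, Subgroup.map_comap_eq_self_of_surjective hsurj, hk]⟩
  exact hlt.ne (Subgroup.comap_injective hsurj h3)

end Cfsg.Agent.H388.KKL
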